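import Groth.Agent.L09.LfpFppf.Sheaf

/-!
# Limit preservation and fppf sheafification; locality on the base
-/

universe u

open CategoryTheory CategoryTheory.Limits AlgebraicGeometry Opposite AlgSp

set_option autoImplicit false
set_option linter.style.haveILetI false
set_option linter.unusedSectionVars false
set_option backward.isDefEq.respectTransparency false
set_option backward.isDefEq.respectTransparency.types false

noncomputable section

namespace Groth.L09.LfpFppf

open Groth.L23

variable {S : Scheme.{u}}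

/-- The presheaf with one section. -/
def one (S : Scheme.{u}) : PSp S := (Functor.const _).obj PUnit.{u + 2}

/-- The map to the presheaf with one section. -/
def toOne (F : PSp S) : F ⟶ one S where
  app _ := ↾fun _ => PUnit.unit

theorem one_subsingleton {T : (Over S)ᵒᵖ} (x y : (one S).obj T) : x = y :=
  Subsingleton.elim (α := PUnit.{u + 2}) x y

theorem isSheaf_one : Presheaf.IsSheaf (AlgSp.J S) (one S) := by
  rw [isSheaf_iff_isSheaf_of_type]
  intro X R _ x _
  exact ⟨PUnit.unit, fun _ _ _ => one_subsingleton _ _, fun _ _ => one_subsingleton _ _⟩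

theorem lifts_seps_of_lp {F : PSp S} (h : IsLimitPreserving F) :
    RLim.Lifts (toOne F) ∧ RLim.Seps (toOne F) := by
  constructor
  · intro I _ _ D c hc hD hpt i g x _
    obtain ⟨hcol⟩ := h D c hc hD hpt
    obtain ⟨k, z, hz⟩ := Types.jointly_surjective _ hcol x
    obtain ⟨j, t, t', -⟩ := IsCofilteredOrEmpty.cone_objs k.unop i
    refine ⟨j, t', F.map (D.map t).op z, one_subsingleton _ _, ?_⟩
    exact (RLim.map₂ F _ _ (c.w t) z).trans hz
  · intro I _ _ D c hc hD hpt i x x' _ hp
    obtain ⟨hcol⟩ := h D c hc hD hpt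
    obtain ⟨k, f, g, hk⟩ := (Types.FilteredColimit.isColimit_eq_iff _ hcol (i := op i) (j := op i) (xi := x) (xj := x')).1 hp
    refine ⟨IsCofiltered.eq f.unop g.unop, IsCofiltered.eqHom f.unop g.unop ≫ f.unop, ?_⟩
    have hk' : F.map (D.map f.unop).op x = F.map (D.map g.unop).op x' := hk
    have h' := congrArg (F.map (D.map (IsCofiltered.eqHom f.unop g.unop)).op) hk'
    rw [RLim.map₂ F _ _ (D.map_comp _ _).symm, RLim.map₂ F _ _ (D.map_comp _ _).symm] at h'
    rwa [← IsCofiltered.eq_condition] at h'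

theorem lp_of_lifts_seps {F : PSp S} (hl : RLim.Lifts (toOne F)) (hs : RLim.Seps (toOne F)) :
    IsLimitPreserving F := by
  intro I _ _ D c hc hD hpt
  refine ⟨Types.FilteredColimit.isColimitOf' _ _ ?_ ?_⟩
  · intro x
    obtain ⟨i⟩ := IsCofiltered.nonempty (C := I)
    obtain ⟨j, t, xj, -, h⟩ := hl D c hc hD hpt i PUnit.unit x (one_subsingleton _ _)
    exact ⟨op j, xj, h.symm⟩
  · rintro ⟨i⟩ x x' e
    obtain ⟨j, t, h⟩ := hs D c hc hD hpt i x x' (one_subsingleton _ _) e
    exact ⟨op j, t.op, h⟩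

theorem isLimitPreserving_sheafify (F : PSp S) (hF : IsLimitPreserving F) :
    IsLimitPreserving (sheafify (AlgSp.J S) F) := by
  obtain ⟨hl, hs⟩ := lifts_seps_of_lp hF
  have hsh : Presheaf.IsSheaf (AlgSp.J S) (sheafify (AlgSp.J S) F) :=
    ((presheafToSheaf (AlgSp.J S) (Type (u + 1))).obj F).property
  have w : toSheafify (AlgSp.J S) F ≫ toOne (sheafify (AlgSp.J S) F) = toOne F ≫ 𝟙 (one S) := by
    ext T x
    exact one_subsingleton _ _
  exact lp_of_lifts_seps (lifts_sheafify _ _ _ _ w hsh isSheaf_one hl hs) (seps_sheafify _ _ _ _ w hsh hs)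

theorem isRelLimitPreserving_sheafify {F G : PSp S} (a : F ⟶ G) (ha : IsRelLimitPreserving a) :
    IsRelLimitPreserving (sheafifyMap (AlgSp.J S) a) := by
  obtain ⟨hl, hs⟩ := RLim.of_isRelLimitPreserving ha
  have hF : Presheaf.IsSheaf (AlgSp.J S) (sheafify (AlgSp.J S) F) :=
    ((presheafToSheaf (AlgSp.J S) (Type (u + 1))).obj F).property
  have hG : Presheaf.IsSheaf (AlgSp.J S) (sheafify (AlgSp.J S) G) :=
    ((presheafToSheaf (AlgSp.J S) (Type (u + 1))).obj G).property
  have w := (toSheafify_naturality (AlgSp.J S) a).symm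
  exact RLim.isRelLimitPreserving_of (lifts_sheafify _ _ _ _ w hF hG hl hs) (seps_sheafify _ _ _ _ w hF hs)

section Local

variable {F : PSp S} {I : Type u} [SmallCategory I] [IsCofiltered I] {D : I ⥤ Over S} {c : Cone D} {U : Over S}

theorem local_lp (hloc : IsLimitPreserving (S := U.left) ((Over.map U.hom).op ⋙ F))
    (hc : IsLimit ((Over.forget S).mapCone c)) (hD : ∀ i, IsAffine (D.obj i).left) (hpt : IsAffine c.pt.left)
    (i : I) (w : D.obj i ⟶ U) :
    (∀ x : F.obj (op c.pt), ∃ (K : Over i) (y : F.obj (op (D.obj K.left))), F.map (c.π.app K.left).op y = x) ∧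
    ∀ x x' : F.obj (op (D.obj i)), F.map (c.π.app i).op x = F.map (c.π.app i).op x' →
      ∃ K : Over i, F.map (D.map K.hom).op x = F.map (D.map K.hom).op x' := by
  let D' : Over i ⥤ Over U.left :=
    { obj := fun v => Over.mk (D.map v.hom ≫ w).left
      map := fun {v v'} f => Over.homMk (D.map f.left).left (by
        show (D.map f.left).left ≫ (D.map v'.hom ≫ w).left = (D.map v.hom ≫ w).left
        rw [← Over.comp_left, ← D.map_comp_assoc, Over.w f])
      map_id := fun v => by ext; simp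
      map_comp := fun f g => by ext; simp }
  let c' : Cone D' :=
    { pt := Over.mk (c.π.app i ≫ w).left
      π :=
        { app := fun v => Over.homMk (c.π.app v.left).left (by
            show (c.π.app v.left).left ≫ (D.map v.hom ≫ w).left = (c.π.app i ≫ w).left
            rw [← Over.comp_left, ← Category.assoc, c.w])
          naturality := fun v v' f => by
            ext
            show 𝟙 _ ≫ (c.π.app v'.left).left = (c.π.app v.left).left ≫ (D.map f.left).left
            rw [← Over.comp_left, c.w, Category.id_comp] } }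
  have hc' : IsLimit ((Over.forget U.left).mapCone c') :=
    (Functor.Initial.isLimitWhiskerEquiv (Over.forget i) _).symm hc
  obtain ⟨hl, hs⟩ := lifts_seps_of_lp hloc
  let top : Over i := Over.mk (𝟙 i)
  let e : ∀ v : Over i, (Over.map U.hom).obj (D'.obj v) ⟶ D.obj v.left := fun v => Over.homMk (𝟙 _) (by
    show 𝟙 _ ≫ (D.obj v.left).hom = (D.map v.hom ≫ w).left ≫ U.hom
    rw [Over.w, Category.id_comp])
  let e' : ∀ v : Over i, D.obj v.left ⟶ (Over.map U.hom).obj (D'.obj v) := fun v => Over.homMk (𝟙 _) (by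
    show 𝟙 _ ≫ (D.map v.hom ≫ w).left ≫ U.hom = (D.obj v.left).hom
    rw [Over.w, Category.id_comp])
  let ep : (Over.map U.hom).obj c'.pt ⟶ c.pt := Over.homMk (𝟙 _) (by
    show 𝟙 _ ≫ c.pt.hom = (c.π.app i ≫ w).left ≫ U.hom
    rw [Over.w, Category.id_comp]
    rfl)
  let ep' : c.pt ⟶ (Over.map U.hom).obj c'.pt := Over.homMk (𝟙 _) (by
    show 𝟙 _ ≫ (c.π.app i ≫ w).left ≫ U.hom = c.pt.hom
    rw [Over.w, Category.id_comp]
    rfl)
  refine ⟨fun x => ?_, fun x x' h => ?_⟩
  · obtain ⟨K, t, y, -, hy⟩ := hl D' c' hc' (fun v => hD v.left) hpt top PUnit.unit (F.map ep.op x)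
      (one_subsingleton _ _)
    refine ⟨K, F.map (e' K).op y, ?_⟩
    refine (RLim.map₂ F _ _ (show c.π.app K.left ≫ e' K = ep' ≫ (Over.map U.hom).map (c'.π.app K) by
      ext; simp [e', ep', c']) y).trans ?_
    refine ((RLim.map₂ F ep' _ rfl y).symm.trans (congrArg (F.map ep'.op) hy)).trans ?_
    rw [RLim.map₂ F _ _ (show ep' ≫ ep = 𝟙 _ by ext; simp [ep, ep'])]
    simp
  · obtain ⟨K, t, hK⟩ := hs D' c' hc' (fun v => hD v.left) hpt top (F.map (e top).op x) (F.map (e top).op x')
      (one_subsingleton _ _) (by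
        show F.map ((Over.map U.hom).map (c'.π.app top)).op (F.map (e top).op x) =
          F.map ((Over.map U.hom).map (c'.π.app top)).op (F.map (e top).op x')
        have he : (Over.map U.hom).map (c'.π.app top) ≫ e top = ep ≫ c.π.app i := by ext; simp [e, ep, c', top]
        exact ((RLim.map₂ F _ _ he x).trans (RLim.map₂ F ep _ rfl x).symm).trans ((congrArg _ h).trans
          ((RLim.map₂ F ep _ rfl x').trans (RLim.map₂ F _ _ he x').symm)))
    have ht : t.left = K.hom := by simpa [top] using Over.w t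
    have he : e' K ≫ (Over.map U.hom).map (D'.map t) ≫ e top = D.map K.hom := by
      ext; simp [e, e', D', top, ht]
    refine ⟨K, ?_⟩
    have hK' : F.map ((Over.map U.hom).map (D'.map t)).op (F.map (e top).op x) =
        F.map ((Over.map U.hom).map (D'.map t)).op (F.map (e top).op x') := hK
    exact ((RLim.map₂ F (e' K) _ he x).symm.trans (congrArg _ (RLim.map₂ F _ _ rfl x).symm)).trans
      ((congrArg _ hK').trans ((congrArg _ (RLim.map₂ F _ _ rfl x')).trans (RLim.map₂ F (e' K) _ he x')))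

end Local

theorem exists_fam_to_cover {ι : Type u} (U : ι → Over S) (hfl : ∀ j, Flat (U j).hom)
    (hfp : ∀ j, LocallyOfFinitePresentation (U j).hom)
    (hsurj : ∀ s : ↥S, ∃ (j : ι) (x : ↥(U j).left), (U j).hom.base x = s) (T : Over S) [IsAffine T.left] :
    ∃ (κ : Type u) (A : κ → Over S) (a : ∀ k, A k ⟶ T), IsFam a ∧ ∀ k, ∃ j, Nonempty (A k ⟶ U j) := by
  let R : Sieve T :=
    { arrows := fun Z _ => ∃ j, Nonempty (Z ⟶ U j)
      downward_closed := fun {Z W f} ⟨j, ⟨g⟩⟩ e => ⟨j, ⟨e ≫ g⟩⟩ }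
  have hR : R ∈ AlgSp.J S T := by
    rw [GrothendieckTopology.mem_over_iff]
    refine GrothendieckTopology.superset_covering _ ?_
      (Precoverage.generate_mem_toGrothendieck (J := Scheme.fppfPrecoverage)
        (R := Presieve.ofArrows (fun j => Limits.pullback (U j).hom T.hom) fun j => pullback.snd _ _) ?_)
    · rw [Sieve.generate_le_iff]
      rintro Z g ⟨j⟩
      exact (Sieve.overEquiv_iff _ _).2 ⟨j, ⟨Over.homMk (pullback.fst _ _) pullback.condition⟩⟩
    · rw [Scheme.fppfPrecoverage, Scheme.ofArrows_mem_precoverage_iff]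
      refine ⟨fun t => ?_, fun j => ⟨MorphismProperty.pullback_snd (P := @Flat) _ _ (hfl j),
        MorphismProperty.pullback_snd (P := @LocallyOfFinitePresentation) _ _ (hfp j)⟩⟩
      obtain ⟨j, y, hy⟩ := hsurj (T.hom t)
      obtain ⟨z, -, hz⟩ := Scheme.Pullback.exists_preimage_pullback y t hy
      exact ⟨j, z, hz⟩
  exact exists_fam_of_mem hR

theorem isLimitPreserving_of_fppfLocally (F : PSp S) (hF : Presheaf.IsSheaf (AlgSp.J S) F) {ι : Type u}
    (U : ι → Over S) (hfl : ∀ j, Flat (U j).hom) (hfp : ∀ j, LocallyOfFinitePresentation (U j).hom)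
    (hsurj : ∀ s : ↥S, ∃ (j : ι) (x : ↥(U j).left), (U j).hom.base x = s)
    (hloc : ∀ j, IsLimitPreserving (S := (U j).left) ((Over.map (U j).hom).op ⋙ F)) : IsLimitPreserving F := by
  have hseps : RLim.Seps (toOne F) := by
    intro I _ _ D c hc hD hpt i x x' _ h
    haveI := hpt; haveI := hD i
    obtain ⟨κ, A, a, ha, hA⟩ := exists_fam_to_cover U hfl hfp hsurj (D.obj i)
    haveI := ha.fin; haveI := ha.aff
    choose j hj using hA
    let top : Over i := Over.mk (𝟙 i)
    have key : ∀ k, ∃ K : Over i, F.map (bcFst (a k) K).op (F.map (a k).op x) = F.map (bcFst (a k) K).op (F.map (a k).op x') := by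
      intro k
      let sq := IsPullback.of_hasPullback (a k) (c.π.app i)
      obtain ⟨hl⟩ := isLimit_bcCone sq hc
      obtain ⟨K, hK⟩ := (local_lp (hloc (j k)) hl (isAffine_bc (a k) hD)
        (isAffine_of_isPullback_stage (a k) hD hpt sq) top (bcFst (a k) top ≫ (hj k).some)).2
        (F.map (bcFst (a k) top).op (F.map (a k).op x)) (F.map (bcFst (a k) top).op (F.map (a k).op x')) (by
          refine (RLim.map₂ F _ _ (bcCone_fst sq top) _).trans (Eq.trans ?_ (RLim.map₂ F _ _ (bcCone_fst sq top) _).symm)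
          exact ((RLim.map₂ F _ _ sq.w x).trans (RLim.map₂ F _ _ rfl x).symm).trans
            ((congrArg _ h).trans ((RLim.map₂ F _ _ rfl x').trans (RLim.map₂ F _ _ sq.w x').symm)))
      refine ⟨K.left, ?_⟩
      rwa [RLim.map₂ F _ _ (bcMap_fst (a k) K.hom), RLim.map₂ F _ _ (bcMap_fst (a k) K.hom)] at hK
    choose K hK using key
    obtain ⟨L, hL⟩ := exists_common_over K
    haveI := hD L.left
    refine ⟨L.left, L.hom, ext_fam hF (ha.bc fun k => isPullback_bc (a k) L) fun k => ?_⟩
    have hh := congrArg (F.map ((bcSys (a k)).map (hL k).some).op) (hK k)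
    rw [RLim.map₂ F _ _ (bcMap_fst (a k) _), RLim.map₂ F _ _ (bcMap_fst (a k) _),
      RLim.map₂ F _ _ (bcFst_comp (a k) L), RLim.map₂ F _ _ (bcFst_comp (a k) L)] at hh
    rwa [RLim.map₂ F _ _ rfl, RLim.map₂ F _ _ rfl]
  refine lp_of_lifts_seps ?_ hseps
  intro I _ _ D c hc hD hpt i g x _
  haveI := hpt; haveI := hD i
  obtain ⟨κ, A, a, ha, hA⟩ := exists_fam_to_cover U hfl hfp hsurj (D.obj i)
  haveI := ha.fin; haveI := ha.aff
  choose j hj using hA
  let top : Over i := Over.mk (𝟙 i)
  let sq := fun k => IsPullback.of_hasPullback (a k) (c.π.app i)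
  have key : ∀ k, ∃ (K : Over i) (y : F.obj (op ((bcSys (a k)).obj K))),
      F.map ((bcCone (sq k)).π.app K).op y = F.map (pullback.snd (a k) (c.π.app i)).op x := by
    intro k
    obtain ⟨hl⟩ := isLimit_bcCone (sq k) hc
    obtain ⟨K, y, hy⟩ := (local_lp (hloc (j k)) hl (isAffine_bc (a k) hD)
      (isAffine_of_isPullback_stage (a k) hD hpt (sq k)) top (bcFst (a k) top ≫ (hj k).some)).1
      (F.map (pullback.snd (a k) (c.π.app i)).op x)
    exact ⟨K.left, y, hy⟩
  choose K y hy using key
  obtain ⟨L, hL⟩ := exists_common_over K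
  haveI := hD L.left
  obtain ⟨L', z, -, hz⟩ := glue_stage hF isSheaf_one hseps hc hD hpt (j := L.left)
    (ha.bc fun k => isPullback_bc (a k) L) (fun k => isPullback_bcCone (sq k) L) PUnit.unit x
    (fun k => F.map ((bcSys (a k)).map (hL k).some).op (y k)) (fun k => one_subsingleton _ _)
    (fun k => (RLim.map₂ F _ _ ((bcCone (sq k)).w _) (y k)).trans (hy k))
  exact ⟨L'.left, L'.hom ≫ L.hom, z, one_subsingleton _ _, hz⟩

end Groth.L09.LfpFppf
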