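import Groth.Agent.L09.LfpFppf.Bc
import Groth.Agent.L09.LfpFppf.Model
import Groth.Agent.L09.Gerbe.Scheme
import Groth.Agent.L09.LfpLift.Basic

/-!
# Finite fppf families of affine schemes and their descent to a stage
-/

universe u

open CategoryTheory CategoryTheory.Limits AlgebraicGeometry Opposite AlgSp

set_option autoImplicit false
set_option linter.style.haveILetI false
set_option linter.unusedSectionVars false
set_option backward.isDefEq.respectTransparency false
set_option backward.isDefEq.respectTransparency.types false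

noncomputable section

namespace Groth.L09.LfpFppf

open Groth.L09.SpLimit

variable {S : Scheme.{u}}

/-- A finite jointly surjective family of affine schemes, flat and locally of finite presentation. -/
structure IsFam {ι : Type u} {T : Over S} {A : ι → Over S} (a : ∀ k, A k ⟶ T) : Prop where
  fin : Finite ι
  aff : ∀ k, IsAffine (A k).left
  flat : ∀ k, Flat (a k).left
  lfp : ∀ k, LocallyOfFinitePresentation (a k).left
  surj : ∀ x : T.left, ∃ k, x ∈ Set.range (a k).left

theorem mem_of_fam {ι : Type u} {T : Over S} {A : ι → Over S} {a : ∀ k, A k ⟶ T} (h : IsFam a) :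
    Sieve.ofArrows A a ∈ AlgSp.J S T := by
  rw [GrothendieckTopology.mem_over_iff]
  refine GrothendieckTopology.superset_covering _ ?_
    (Precoverage.generate_mem_toGrothendieck (J := Scheme.fppfPrecoverage)
      (R := Presieve.ofArrows (fun k => (A k).left) fun k => (a k).left) ?_)
  · rw [Sieve.generate_le_iff]
    rintro Z g ⟨k⟩
    exact (Sieve.overEquiv_iff _ (a k).left).2 (by
      refine ⟨A k, Over.homMk (𝟙 _) (by simp), a k, ⟨k⟩, ?_⟩
      ext; simp)
  · rw [Scheme.fppfPrecoverage, Scheme.ofArrows_mem_precoverage_iff]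
    exact ⟨fun x => h.surj x, fun k => ⟨h.flat k, h.lfp k⟩⟩

theorem exists_fam_of_mem {T : Over S} [IsAffine T.left] {R : Sieve T} (hR : R ∈ AlgSp.J S T) :
    ∃ (ι : Type u) (A : ι → Over S) (a : ∀ k, A k ⟶ T), IsFam a ∧ ∀ k, R (a k) := by
  obtain ⟨W, v, hv, hfl, hfp, hs⟩ := Groth.L09.Gerbe.exists_cover_of_mem_J (U := T) hR
  have hw : ∀ t : T.left, ∃ V : (W t).left.Opens, IsAffineOpen V ∧ t ∈ (v t).left '' (V : Set (W t).left) := by
    intro t
    obtain ⟨x, hx⟩ := hs t
    obtain ⟨_, ⟨V, hV, rfl⟩, hxV, -⟩ :=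
      (W t).left.isBasis_affineOpens.exists_subset_of_mem_open (Set.mem_univ x) isOpen_univ
    exact ⟨V, hV, x, hxV, hx⟩
  choose V hV hx using hw
  obtain ⟨s, hs'⟩ := isCompact_univ.elim_finite_subcover (fun t => (v t).left '' (V t : Set (W t).left))
    (fun t => by
      haveI := hfl t; haveI := hfp t
      exact (v t).left.isOpenMap _ (V t).isOpen)
    (fun t _ => Set.mem_iUnion.2 ⟨t, hx t⟩)
  refine ⟨↥s, fun k => Over.mk ((V k.1).ι ≫ (W k.1).hom),
    fun k => Over.homMk ((V k.1).ι ≫ (v k.1).left) (by simp), ⟨inferInstance, fun k => hV k.1, ?_, ?_, ?_⟩, ?_⟩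
  · intro k
    haveI := hfl k.1
    exact inferInstanceAs (Flat ((V k.1).ι ≫ (v k.1).left))
  · intro k
    haveI := hfp k.1
    exact inferInstanceAs (LocallyOfFinitePresentation ((V k.1).ι ≫ (v k.1).left))
  · intro x
    obtain ⟨t, ht, y, hy, rfl⟩ := Set.mem_iUnion₂.1 (hs' (Set.mem_univ x))
    exact ⟨⟨t, ht⟩, ⟨y, hy⟩, rfl⟩
  · intro k
    convert R.downward_closed (hv k.1)
      (Over.homMk (V k.1).ι rfl : Over.mk ((V k.1).ι ≫ (W k.1).hom) ⟶ W k.1) using 1
    ext; simp

theorem range_of_isPullback {A B C E : Scheme.{u}} {l : A ⟶ B} {ε : A ⟶ C} {q : B ⟶ E} {g : C ⟶ E}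
    (sq : IsPullback l ε q g) : Set.range ε = g ⁻¹' Set.range q := by
  rw [← sq.isoPullback_hom_snd, Scheme.Hom.comp_base, TopCat.coe_comp, Set.range_comp,
    Set.range_eq_univ.2 sq.isoPullback.hom.surjective, Set.image_univ, Scheme.Pullback.range_snd]

theorem IsFam.bc {ι : Type u} {T T' : Over S} [IsAffine T.left] [IsAffine T'.left] {A A' : ι → Over S}
    {a : ∀ k, A k ⟶ T} (h : IsFam a) {g : T' ⟶ T} {p : ∀ k, A' k ⟶ A k} {a' : ∀ k, A' k ⟶ T'}
    (sq : ∀ k, IsPullback (p k) (a' k) (a k) g) : IsFam a' where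
  fin := h.fin
  aff k := by
    haveI := h.aff k
    haveI : IsAffineHom (a k).left := isAffineHom_of_isAffine _
    haveI : IsAffineHom (a' k).left :=
      MorphismProperty.of_isPullback ((sq k).map (Over.forget S)) (inferInstanceAs (IsAffineHom (a k).left))
    exact isAffine_of_isAffineHom (a' k).left
  flat k := MorphismProperty.of_isPullback ((sq k).map (Over.forget S)) (h.flat k)
  lfp k := MorphismProperty.of_isPullback ((sq k).map (Over.forget S)) (h.lfp k)
  surj x := by
    obtain ⟨k, hk⟩ := h.surj (g.left x)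
    exact ⟨k, (Set.ext_iff.1 (range_of_isPullback ((sq k).map (Over.forget S))) x).2 hk⟩

variable {I : Type u} [SmallCategory I] [IsCofiltered I]

theorem exists_common_over {i : I} {ι : Type u} [Finite ι] (k : ι → Over i) :
    ∃ (j : Over i), ∀ m, Nonempty (j ⟶ k m) := by
  classical
  haveI := Fintype.ofFinite ι
  obtain ⟨j, hj⟩ := IsCofiltered.inf_objs_exists (Finset.univ.image k)
  exact ⟨j, fun m => hj (Finset.mem_image_of_mem _ (Finset.mem_univ m))⟩

variable {D : I ⥤ Over S} {c : Cone D}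

theorem exists_stage_flat (hc : IsLimit ((Over.forget S).mapCone c)) (hD : ∀ i, IsAffine (D.obj i).left)
    (hpt : IsAffine c.pt.left) (i : I) {P : Over S} [IsAffine P.left] (ε : P ⟶ c.pt) [Flat ε.left]
    [LocallyOfFinitePresentation ε.left] :
    ∃ (j : Over i) (A : Over S) (q : A ⟶ D.obj j.left) (l : P ⟶ A),
      IsAffine A.left ∧ Flat q.left ∧ LocallyOfFinitePresentation q.left ∧ IsPullback l ε q (c.π.app j.left) := by
  haveI := hpt
  obtain ⟨Z, V, v, t, w, hZa, hVa, hvf, hvp, hZ, sqw⟩ := exists_flat_model ε.left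
  haveI := hZa; haveI := hVa; haveI := hvf; haveI := hvp; haveI := hZ
  let E := D ⋙ Over.forget S
  haveI : ∀ j, IsAffine (E.obj j) := hD
  haveI : ∀ {j k : I} (φ : j ⟶ k), IsAffineHom (E.map φ) := fun φ => isAffineHom_of_isAffine _
  let τ : E ⟶ (Functor.const I).obj (Spec (.of (ULift.{u} ℤ))) :=
    { app := fun j => specULiftZIsTerminal.from _
      naturality := fun _ _ _ => specULiftZIsTerminal.hom_ext _ _ }
  obtain ⟨j₀, g₀, hg₀, -⟩ := Scheme.exists_π_app_comp_eq_of_locallyOfFinitePresentation E τ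
    (specULiftZIsTerminal.from Z) ((Over.forget S).mapCone c) hc t
    (by ext1; ext1 j; exact specULiftZIsTerminal.hom_ext _ _)
  let j := IsCofiltered.min j₀ i
  let G : D.obj j ⟶ bz S Z := toBz ((D.map (IsCofiltered.minToLeft j₀ i)).left ≫ g₀)
  let w' : P ⟶ bz S V := toBz w
  have hG : c.π.app j ≫ G = toBz t := bz_ext (by
    rw [Over.comp_left, Category.assoc, toBz_fst, toBz_fst, ← Category.assoc, ← Over.comp_left, c.w]
    exact hg₀)
  have sqw' : IsPullback w' ε (bzMap v) (toBz t) := by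
    have wl : w' ≫ bzMap v = ε ≫ toBz t := bz_ext (by
      rw [Over.comp_left, Over.comp_left, Category.assoc, Category.assoc, toBz_fst, ← (bzMap_sq v).w,
        ← Category.assoc, toBz_fst, sqw.w])
    refine IsPullback.of_map (Over.forget S) wl ?_
    refine IsPullback.of_right ?_ (congrArg CommaMorphism.left wl) (bzMap_sq v)
    show IsPullback (w'.left ≫ bzFst S V) ε.left v ((toBz t).left ≫ bzFst S Z)
    rw [toBz_fst, toBz_fst]
    exact sqw
  let A := pullback (bzMap (S := S) v) G
  let q : A ⟶ D.obj j := pullback.snd _ _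
  have sqA := IsPullback.of_hasPullback (bzMap (S := S) v) G
  have sqAs : IsPullback _ q.left (bzMap (S := S) v).left G.left := sqA.map (Over.forget S)
  haveI := hD j
  haveI : IsAffineHom q.left := MorphismProperty.of_isPullback sqAs
    (MorphismProperty.of_isPullback (P := @IsAffineHom) (bzMap_sq v) (isAffineHom_of_isAffine v))
  refine ⟨Over.mk (IsCofiltered.minToRight j₀ i), A, q, sqA.lift w' (ε ≫ c.π.app j)
    (by rw [Category.assoc, hG]; exact sqw'.w), isAffine_of_isAffineHom q.left,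
    MorphismProperty.of_isPullback sqAs (MorphismProperty.of_isPullback (P := @Flat) (bzMap_sq v) hvf),
    MorphismProperty.of_isPullback sqAs
      (MorphismProperty.of_isPullback (P := @LocallyOfFinitePresentation) (bzMap_sq v) hvp), ?_⟩
  show IsPullback _ ε q (c.π.app j)
  refine IsPullback.of_right ?_ (sqA.lift_snd _ _ _) sqA
  rw [sqA.lift_fst, hG]
  exact sqw'

theorem exists_stage_fam (hc : IsLimit ((Over.forget S).mapCone c)) (hD : ∀ i, IsAffine (D.obj i).left)
    (hpt : IsAffine c.pt.left) (i : I) {ι : Type u} {P : ι → Over S} {ε : ∀ m, P m ⟶ c.pt} (hε : IsFam ε) :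
    ∃ (j : Over i) (A : ι → Over S) (q : ∀ m, A m ⟶ D.obj j.left) (l : ∀ m, P m ⟶ A m),
      IsFam q ∧ ∀ m, IsPullback (l m) (ε m) (q m) (c.π.app j.left) := by
  haveI := hε.fin
  haveI := hε.aff; haveI := hε.flat; haveI := hε.lfp
  choose k A₀ q₀ l₀ hA hqf hqp hsq using fun m => exists_stage_flat hc hD hpt i (ε m)
  obtain ⟨j, hj⟩ := exists_common_over k
  let φ := fun m => (hj m).some
  let A₁ := fun m => (bcSys (q₀ m)).obj (Over.mk (φ m).left)
  let q₁ : ∀ m, A₁ m ⟶ D.obj j.left := fun m => bcSnd (q₀ m) (Over.mk (φ m).left)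
  have hsq₁ := fun m => isPullback_bcCone (hsq m) (Over.mk (φ m).left)
  have sq₁ := fun m => isPullback_bc (q₀ m) (Over.mk (φ m).left)
  have hf : ∀ m, Flat (q₁ m).left := fun m =>
    MorphismProperty.of_isPullback ((sq₁ m).map (Over.forget S)) (hqf m)
  have hp : ∀ m, LocallyOfFinitePresentation (q₁ m).left := fun m =>
    MorphismProperty.of_isPullback ((sq₁ m).map (Over.forget S)) (hqp m)
  have hA₁ : ∀ m, IsAffine (A₁ m).left := fun m => by
    haveI := hA m
    exact isAffine_bc (q₀ m) hD _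
  let U : (D.obj j.left).left.Opens := ⟨⋃ m, Set.range (q₁ m).left, isOpen_iUnion fun m => by
    haveI := hf m; haveI := hp m
    exact (q₁ m).left.isOpenMap.isOpen_range⟩
  haveI : ∀ {a b : I} (φ : a ⟶ b), IsAffineHom ((D ⋙ Over.forget S).map φ) := fun φ => by
    haveI := hD
    exact isAffineHom_of_isAffine (D.map φ).left
  haveI : ∀ a : I, CompactSpace ↥((D ⋙ Over.forget S).obj a) := fun a => by
    haveI := hD a
    show CompactSpace ↥(D.obj a).left
    infer_instance
  obtain ⟨a, t, ha⟩ := exists_map_eq_top (D ⋙ Over.forget S) ((Over.forget S).mapCone c) hc U (by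
    refine eq_top_iff.2 fun x _ => ?_
    obtain ⟨m, y, rfl⟩ := hε.surj x
    show (c.π.app j.left).left ((ε m).left y) ∈ ⋃ m, Set.range (q₁ m).left
    refine Set.mem_iUnion.2 ⟨m, ((bcCone (hsq m)).π.app (Over.mk (φ m).left)).left y, ?_⟩
    exact congrArg (fun e : P m ⟶ D.obj j.left => e.left y) (hsq₁ m).w)
  refine ⟨Over.mk (t ≫ j.hom), fun m => (bcSys (q₁ m)).obj (Over.mk t), fun m => bcSnd (q₁ m) (Over.mk t),
    fun m => (bcCone (hsq₁ m)).π.app (Over.mk t), ⟨hε.fin, ?_, ?_, ?_, ?_⟩, fun m => isPullback_bcCone (hsq₁ m) (Over.mk t)⟩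
  · intro m
    haveI := hA₁ m
    exact isAffine_bc (q₁ m) hD _
  · exact fun m => MorphismProperty.of_isPullback ((isPullback_bc (q₁ m) (Over.mk t)).map (Over.forget S)) (hf m)
  · exact fun m => MorphismProperty.of_isPullback ((isPullback_bc (q₁ m) (Over.mk t)).map (Over.forget S)) (hp m)
  · intro x
    have hx : (D.map t).left x ∈ U := (SetLike.ext_iff.1 ha x).2 trivial
    obtain ⟨m, hm⟩ := Set.mem_iUnion.1 hx
    exact ⟨m, (Set.ext_iff.1 (range_of_isPullback ((isPullback_bc (q₁ m) (Over.mk t)).map (Over.forget S))) x).2 hm⟩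

end Groth.L09.LfpFppf
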