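import Groth.Agent.L09.SpLimit.PbSys

/-!
# Base change of a system of affine schemes along an affine scheme over a stage
-/

universe u

open CategoryTheory CategoryTheory.Limits AlgebraicGeometry Opposite AlgSp

set_option autoImplicit false
set_option linter.style.haveILetI false
set_option linter.unusedSectionVars false
set_option backward.isDefEq.respectTransparency false
set_option backward.isDefEq.respectTransparency.types false

noncomputable section

namespace Groth.L09.LfpFppf

open Groth.L09.SpLimit

variable {S : Scheme.{u}} {I : Type u} [SmallCategory I] [IsCofiltered I] (D : I ⥤ Over S)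

/-- The structure maps of the stages over `j`. -/
def bcBase (j : I) : (Over.forget j ⋙ D) ⟶ (Functor.const (Over j)).obj (D.obj j) where
  app k := D.map k.hom
  naturality k k' φ := by
    show D.map φ.left ≫ D.map k'.hom = D.map k.hom ≫ 𝟙 _
    rw [← D.map_comp, Over.w φ, Category.comp_id]

variable {D} {j : I} {A : Over S} (q : A ⟶ D.obj j)

/-- The base change of the system along `q`. -/
def bcSys : Over j ⥤ Over S := pbSys (bcBase D j) q

/-- The projection to `A`. -/
def bcFst (k : Over j) : (bcSys q).obj k ⟶ A := pullback.fst q ((bcBase D j).app k)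

/-- The projection to the system. -/
def bcSnd (k : Over j) : (bcSys q).obj k ⟶ D.obj k.left := pullback.snd q ((bcBase D j).app k)

theorem isPullback_bc (k : Over j) : IsPullback (bcFst q k) (bcSnd q k) q (D.map k.hom) :=
  IsPullback.of_hasPullback _ _

@[reassoc (attr := simp)]
theorem bcMap_fst {k k' : Over j} (φ : k ⟶ k') : (bcSys q).map φ ≫ bcFst q k' = bcFst q k :=
  (pullback.lift_fst _ _ _).trans (Category.comp_id _)

@[reassoc (attr := simp)]
theorem bcMap_snd {k k' : Over j} (φ : k ⟶ k') : (bcSys q).map φ ≫ bcSnd q k' = bcSnd q k ≫ D.map φ.left :=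
  pullback.lift_snd _ _ _

theorem bcFst_comp (k : Over j) : bcFst q k ≫ q = bcSnd q k ≫ D.map k.hom := (isPullback_bc q k).w

theorem bc_hom_ext {Z : Over S} {k : Over j} {f g : Z ⟶ (bcSys q).obj k} (h₁ : f ≫ bcFst q k = g ≫ bcFst q k)
    (h₂ : f ≫ bcSnd q k = g ≫ bcSnd q k) : f = g := (isPullback_bc q k).hom_ext h₁ h₂

theorem isAffine_bc [IsAffine A.left] (hD : ∀ i, IsAffine (D.obj i).left) (k : Over j) :
    IsAffine ((bcSys q).obj k).left := by
  haveI := hD j
  haveI := hD k.left
  haveI : IsAffineHom q.left := isAffineHom_of_isAffine _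
  haveI : IsAffineHom (bcSnd q k).left :=
    MorphismProperty.of_isPullback ((isPullback_bc q k).map (Over.forget S)) (inferInstanceAs (IsAffineHom q.left))
  exact isAffine_of_isAffineHom (bcSnd q k).left

theorem isAffine_of_isPullback_stage {c : Cone D} (hD : ∀ i, IsAffine (D.obj i).left) [IsAffine A.left]
    (hpt : IsAffine c.pt.left) {P : Over S} {l : P ⟶ A} {ε : P ⟶ c.pt} (sq : IsPullback l ε q (c.π.app j)) :
    IsAffine P.left := by
  haveI := hD j
  haveI := hpt
  haveI : IsAffineHom q.left := isAffineHom_of_isAffine _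
  haveI : IsAffineHom ε.left :=
    MorphismProperty.of_isPullback (sq.map (Over.forget S)) (inferInstanceAs (IsAffineHom q.left))
  exact isAffine_of_isAffineHom ε.left

variable {q} {c : Cone D} {P : Over S} {l : P ⟶ A} {ε : P ⟶ c.pt} (sq : IsPullback l ε q (c.π.app j))

/-- The cone over the base change. -/
def bcCone : Cone (bcSys q) where
  pt := P
  π :=
    { app := fun k => (isPullback_bc q k).lift l (ε ≫ c.π.app k.left) (by rw [Category.assoc, c.w]; exact sq.w)
      naturality := fun k k' φ => by
        show 𝟙 _ ≫ _ = _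
        rw [Category.id_comp]
        apply bc_hom_ext <;> simp [c.w] }

@[reassoc (attr := simp)]
theorem bcCone_fst (k : Over j) : (bcCone sq).π.app k ≫ bcFst q k = l := (isPullback_bc q k).lift_fst _ _ _

@[reassoc (attr := simp)]
theorem bcCone_snd (k : Over j) : (bcCone sq).π.app k ≫ bcSnd q k = ε ≫ c.π.app k.left :=
  (isPullback_bc q k).lift_snd _ _ _

theorem isPullback_bcCone (k : Over j) : IsPullback ((bcCone sq).π.app k) ε (bcSnd q k) (c.π.app k.left) := by
  refine IsPullback.of_right ?_ (bcCone_snd sq k) (isPullback_bc q k)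
  rw [bcCone_fst, c.w]
  exact sq

theorem isLimit_bcCone (hc : IsLimit ((Over.forget S).mapCone c)) :
    Nonempty (IsLimit ((Over.forget S).mapCone (bcCone sq))) := by
  haveI : IsConnected (Over j) := IsCofiltered.isConnected _
  haveI : IsConnected I := IsCofiltered.isConnected _
  have hcO : IsLimit c := isLimitOfReflects (Over.forget S) hc
  have hc' : IsLimit (c.whisker (Over.forget j)) := (Functor.Initial.isLimitWhiskerEquiv (Over.forget j) c).symm hcO
  have hg : ∀ k, (c.whisker (Over.forget j)).π.app k ≫ (bcBase D j).app k = c.π.app j := fun k => c.w k.hom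
  let cP := pbCone (bcBase D j) q (c.whisker (Over.forget j)) (c.π.app j) hg
  have hP : IsLimit cP := isLimitPbCone (bcBase D j) q hc' (c.π.app j) hg
  have e : cP ≅ bcCone sq := Cone.ext sq.isoPullback.symm fun k => by
    rw [← Iso.inv_comp_eq]
    apply bc_hom_ext
    · rw [Category.assoc, bcCone_fst]
      simp [cP, pbCone, bcFst]
    · rw [Category.assoc, bcCone_snd]
      simp [cP, pbCone, bcSnd]
  exact ⟨isLimitOfPreserves (Over.forget S) (hP.ofIsoLimit e)⟩

end Groth.L09.LfpFppf
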