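import Groth.Agent.L09.LfpFppf.Family
import Groth.Agent.L23.RelLim

/-!
# Limit preserving maps and fppf sheaves
-/

universe u

open CategoryTheory CategoryTheory.Limits AlgebraicGeometry Opposite AlgSp

set_option autoImplicit false
set_option linter.style.haveILetI false
set_option linter.unusedSectionVars false
set_option backward.isDefEq.respectTransparency false
set_option backward.isDefEq.respectTransparency.types false

noncomputable section

namespace Groth.L09.LfpFppf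

open Groth.L23

variable {S : Scheme.{u}} {F G F' G' : PSp S}

theorem isSheafFor_fam (hF : Presheaf.IsSheaf (AlgSp.J S) F) {ι : Type u} {T : Over S} {A : ι → Over S}
    {a : ∀ k, A k ⟶ T} (h : IsFam a) : (Presieve.ofArrows A a).IsSheafFor F :=
  (Presieve.isSheafFor_iff_generate _).2 ((isSheaf_iff_isSheaf_of_type _ _).1 hF _ (mem_of_fam h))

theorem ext_fam (hF : Presheaf.IsSheaf (AlgSp.J S) F) {ι : Type u} {T : Over S} {A : ι → Over S}
    {a : ∀ k, A k ⟶ T} (h : IsFam a) {x y : F.obj (op T)} (e : ∀ k, F.map (a k).op x = F.map (a k).op y) :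
    x = y :=
  (isSheafFor_fam hF h).isSeparatedFor.ext fun _ _ ⟨k⟩ => e k

variable {I : Type u} [SmallCategory I] [IsCofiltered I] {D : I ⥤ Over S} {c : Cone D}

/-- An equation over the base change of the limit holds over the base change of a stage. -/
theorem stage_eq {a : F ⟶ G} (hs : RLim.Seps a) (hc : IsLimit ((Over.forget S).mapCone c))
    (hD : ∀ i, IsAffine (D.obj i).left) (hpt : IsAffine c.pt.left) {j : I} {A : Over S} [IsAffine A.left]
    {q : A ⟶ D.obj j} {P : Over S} {l : P ⟶ A} {ε : P ⟶ c.pt} (sq : IsPullback l ε q (c.π.app j))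
    (z z' : F.obj (op A)) (ha : a.app _ z = a.app _ z') (h : F.map l.op z = F.map l.op z') :
    ∃ K : Over j, F.map (bcFst q K).op z = F.map (bcFst q K).op z' := by
  obtain ⟨hl⟩ := isLimit_bcCone sq hc
  haveI : IsAffine P.left := isAffine_of_isPullback_stage q hD hpt sq
  let top : Over j := Over.mk (𝟙 j)
  obtain ⟨K, t, e⟩ := hs (bcSys q) (bcCone sq) hl (isAffine_bc q hD) ‹_› top
    (F.map (bcFst q top).op z) (F.map (bcFst q top).op z') (by rw [RLim.nat, RLim.nat, ha])
    (by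
      rw [RLim.map₂ F _ _ (bcCone_fst sq top), RLim.map₂ F _ _ (bcCone_fst sq top)]
      exact h)
  refine ⟨K, ?_⟩
  rwa [RLim.map₂ F _ _ (bcMap_fst q t), RLim.map₂ F _ _ (bcMap_fst q t)] at e

/-- Local sections over a stage which restrict to a section over the limit glue at a further stage. -/
theorem glue_stage {a : F ⟶ G} (hF : Presheaf.IsSheaf (AlgSp.J S) F) (hG : Presheaf.IsSheaf (AlgSp.J S) G)
    (hs : RLim.Seps a) (hc : IsLimit ((Over.forget S).mapCone c)) (hD : ∀ i, IsAffine (D.obj i).left)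
    (hpt : IsAffine c.pt.left) {j : I} {ι : Type u} {A P : ι → Over S} {q : ∀ k, A k ⟶ D.obj j}
    {l : ∀ k, P k ⟶ A k} {ε : ∀ k, P k ⟶ c.pt} (hq : IsFam q)
    (sq : ∀ k, IsPullback (l k) (ε k) (q k) (c.π.app j)) (g : G.obj (op (D.obj j))) (s : F.obj (op c.pt))
    (x : ∀ k, F.obj (op (A k))) (ha : ∀ k, a.app _ (x k) = G.map (q k).op g)
    (hx : ∀ k, F.map (l k).op (x k) = F.map (ε k).op s) :
    ∃ (L : Over j) (y : F.obj (op (D.obj L.left))),
      a.app _ y = G.map (D.map L.hom).op g ∧ F.map (c.π.app L.left).op y = s := by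
  haveI := hq.fin; haveI := hq.aff; haveI := hpt; haveI := hD j
  have key : ∀ p : ι × ι, ∃ K : Over j,
      F.map (bcFst (pullback.fst (q p.1) (q p.2) ≫ q p.1) K).op (F.map (pullback.fst (q p.1) (q p.2)).op (x p.1)) =
      F.map (bcFst (pullback.fst (q p.1) (q p.2) ≫ q p.1) K).op (F.map (pullback.snd (q p.1) (q p.2)).op (x p.2)) := by
    rintro ⟨k, m⟩
    let r := pullback.fst (q k) (q m) ≫ q k
    haveI : IsAffine (pullback (q k) (q m)).left := by
      haveI : IsAffineHom (q m).left := isAffineHom_of_isAffine _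
      haveI : IsAffineHom (pullback.fst (q k) (q m)).left :=
        MorphismProperty.of_isPullback ((IsPullback.of_hasPullback (q k) (q m)).flip.map (Over.forget S))
          (inferInstanceAs (IsAffineHom (q m).left))
      exact isAffine_of_isAffineHom (pullback.fst (q k) (q m)).left
    refine stage_eq hs hc hD hpt (IsPullback.of_hasPullback r (c.π.app j)) _ _ ?_ ?_
    · rw [RLim.nat, RLim.nat, ha, ha]
      exact (RLim.map₂ G _ _ rfl g).trans (RLim.map₂ G _ _ pullback.condition.symm g).symm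
    · let e₁ := (sq k).lift (pullback.fst r (c.π.app j) ≫ pullback.fst (q k) (q m)) (pullback.snd r (c.π.app j))
        (by rw [Category.assoc]; exact pullback.condition)
      let e₂ := (sq m).lift (pullback.fst r (c.π.app j) ≫ pullback.snd (q k) (q m)) (pullback.snd r (c.π.app j))
        (by rw [Category.assoc, ← pullback.condition]; exact pullback.condition)
      rw [RLim.map₂ F _ _ rfl, RLim.map₂ F _ _ rfl, ← RLim.map₂ F e₁ (l k) ((sq k).lift_fst _ _ _),
        ← RLim.map₂ F e₂ (l m) ((sq m).lift_fst _ _ _), hx, hx, RLim.map₂ F _ _ ((sq k).lift_snd _ _ _),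
        RLim.map₂ F _ _ ((sq m).lift_snd _ _ _)]
  choose K hK using key
  obtain ⟨L, hL⟩ := exists_common_over K
  haveI := hD L.left
  have hfam : IsFam (fun k => bcSnd (q k) L) := hq.bc fun k => isPullback_bc (q k) L
  have hcompat : Presieve.Arrows.Compatible F (fun k => bcSnd (q k) L)
      (fun k => F.map (bcFst (q k) L).op (x k)) := by
    intro k m Z gk gm e
    let r := pullback.fst (q k) (q m) ≫ q k
    let e₂ : Z ⟶ pullback (q k) (q m) := pullback.lift (gk ≫ bcFst (q k) L) (gm ≫ bcFst (q m) L) (by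
      rw [Category.assoc, Category.assoc, bcFst_comp, bcFst_comp, reassoc_of% e])
    let e₃ : Z ⟶ (bcSys r).obj L := (isPullback_bc r L).lift e₂ (gk ≫ bcSnd (q k) L) (by
      simp only [r, e₂, pullback.lift_fst_assoc, Category.assoc, bcFst_comp])
    let φ := (hL (k, m)).some
    have h₀ := congrArg (F.map (e₃ ≫ (bcSys r).map φ).op) (hK (k, m))
    rw [RLim.map₂ F _ _ rfl, RLim.map₂ F _ _ rfl, RLim.map₂ F _ _ rfl, RLim.map₂ F _ _ rfl] at h₀
    rw [RLim.map₂ F _ _ rfl, RLim.map₂ F _ _ rfl]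
    convert h₀ using 4
    · simp [e₃, e₂, r]
    · simp [e₃, e₂, r]
  obtain ⟨y, hy, -⟩ := (Presieve.isSheafFor_arrows_iff F (fun k => bcSnd (q k) L)).1 (isSheafFor_fam hF hfam) _ hcompat
  refine ⟨L, y, ext_fam hG hfam fun k => ?_, ?_⟩
  · rw [← RLim.nat, hy, RLim.nat, ha, RLim.map₂ G _ _ (bcFst_comp (q k) L), ← RLim.map₂ G _ _ rfl g]
  · haveI : ∀ k, IsAffine (P k).left := fun k => isAffine_of_isPullback_stage (q k) hD hpt (sq k)
    refine ext_fam hF (hq.bc sq) fun k => ?_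
    refine (RLim.map₂ F _ _ (bcCone_snd (sq k) L).symm y).trans ?_
    rw [← RLim.map₂ F _ _ rfl y, hy]
    exact (RLim.map₂ F _ _ (bcCone_fst (sq k) L) (x k)).trans (hx k)

variable (a : F ⟶ G) (a' : F' ⟶ G') (η : F ⟶ F') (θ : G ⟶ G') (w : η ≫ a' = a ≫ θ)

include w

theorem sq_app {T : Over S} (x : F.obj (op T)) : a'.app _ (η.app _ x) = θ.app _ (a.app _ x) :=
  ConcreteCategory.congr_hom (NatTrans.congr_app w (op T)) x

/-- Relative sections agreeing in the sheafification over the limit agree there at a stage. -/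
theorem eta_seps [Presheaf.IsLocallyInjective (AlgSp.J S) η] (hF' : Presheaf.IsSheaf (AlgSp.J S) F')
    (hs : RLim.Seps a) (hc : IsLimit ((Over.forget S).mapCone c)) (hD : ∀ i, IsAffine (D.obj i).left)
    (hpt : IsAffine c.pt.left) (i : I) (x x' : F.obj (op (D.obj i))) (ha : a.app _ x = a.app _ x')
    (h : η.app _ (F.map (c.π.app i).op x) = η.app _ (F.map (c.π.app i).op x')) :
    ∃ K : Over i, η.app _ (F.map (D.map K.hom).op x) = η.app _ (F.map (D.map K.hom).op x') := by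
  haveI := hpt
  obtain ⟨ι, P, ε, hε, hεR⟩ := exists_fam_of_mem (Presheaf.equalizerSieve_mem (AlgSp.J S) η (X := op c.pt) _ _ h)
  obtain ⟨j, A, q, l, hq, sq⟩ := exists_stage_fam hc hD hpt i hε
  haveI := hq.fin; haveI := hq.aff
  choose K hK using fun m => stage_eq hs hc hD hpt (sq m) (F.map (q m ≫ D.map j.hom).op x)
    (F.map (q m ≫ D.map j.hom).op x') (by rw [RLim.nat, RLim.nat, ha]) (by
      have e : l m ≫ q m ≫ D.map j.hom = ε m ≫ c.π.app i := by rw [reassoc_of% (sq m).w, c.w]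
      have hh : F.map (ε m).op (F.map (c.π.app i).op x) = F.map (ε m).op (F.map (c.π.app i).op x') := hεR m
      rw [RLim.map₂ F _ _ e, RLim.map₂ F _ _ e, ← RLim.map₂ F _ _ rfl x, ← RLim.map₂ F _ _ rfl x']
      exact hh)
  obtain ⟨L, hL⟩ := exists_common_over K
  haveI := hD L.left; haveI := hD j.left
  have hfam : IsFam (fun m => bcSnd (q m) L) := hq.bc fun m => isPullback_bc (q m) L
  refine ⟨Over.mk (L.hom ≫ j.hom), ?_⟩
  show η.app _ (F.map (D.map (L.hom ≫ j.hom)).op x) = η.app _ (F.map (D.map (L.hom ≫ j.hom)).op x')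
  refine ext_fam hF' hfam fun m => ?_
  rw [← RLim.nat η (bcSnd (q m) L), ← RLim.nat η (bcSnd (q m) L)]
  have hh := congrArg (F.map ((bcSys (q m)).map (hL m).some).op) (hK m)
  rw [RLim.map₂ F _ _ (bcMap_fst (q m) _), RLim.map₂ F _ _ (bcMap_fst (q m) _), RLim.map₂ F _ _ rfl,
    RLim.map₂ F _ _ rfl] at hh
  have e : bcSnd (q m) L ≫ D.map (L.hom ≫ j.hom) = bcFst (q m) L ≫ q m ≫ D.map j.hom := by
    rw [D.map_comp, reassoc_of% (bcFst_comp (q m) L)]
  rw [RLim.map₂ F _ _ e, RLim.map₂ F _ _ e, hh]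

omit [IsCofiltered I]

theorem seps_sheafify [Presheaf.IsLocallyInjective (AlgSp.J S) η] [Presheaf.IsLocallySurjective (AlgSp.J S) η]
    [Presheaf.IsLocallyInjective (AlgSp.J S) θ] (hF' : Presheaf.IsSheaf (AlgSp.J S) F') (hs : RLim.Seps a) :
    RLim.Seps a' := by
  intro I _ _ D c hc hD hpt i s s' ha hp
  haveI := hpt; haveI := hD i
  let R : Sieve (D.obj i) :=
    { arrows := fun Z f => ∃ x x' : F.obj (op Z),
        η.app _ x = F'.map f.op s ∧ η.app _ x' = F'.map f.op s' ∧ a.app _ x = a.app _ x'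
      downward_closed := by
        rintro Z W f ⟨x, x', h₁, h₂, h₃⟩ g
        refine ⟨F.map g.op x, F.map g.op x', ?_, ?_, by rw [RLim.nat, RLim.nat, h₃]⟩
        · rw [RLim.nat, h₁, RLim.map₂ F' _ _ rfl]
        · rw [RLim.nat, h₂, RLim.map₂ F' _ _ rfl] }
  have hR : R ∈ AlgSp.J S (D.obj i) := by
    refine (AlgSp.J S).transitive ((AlgSp.J S).intersection_covering (Presheaf.imageSieve_mem (AlgSp.J S) η (U := op (D.obj i)) s)
      (Presheaf.imageSieve_mem (AlgSp.J S) η (U := op (D.obj i)) s')) R fun Z f hf => ?_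
    obtain ⟨⟨x, hx⟩, x', hx'⟩ := hf
    refine (AlgSp.J S).superset_covering ?_ (Presheaf.equalizerSieve_mem (AlgSp.J S) θ (X := op Z) (a.app _ x) (a.app _ x') ?_)
    · intro W g hg
      refine ⟨F.map g.op x, F.map g.op x', ?_, ?_, by rw [RLim.nat, RLim.nat]; exact hg⟩
      · rw [RLim.nat, hx, RLim.map₂ F' _ _ rfl]
      · rw [RLim.nat, hx', RLim.map₂ F' _ _ rfl]
    · rw [← sq_app a a' η θ w, ← sq_app a a' η θ w, hx, hx', RLim.nat, RLim.nat, ha]
  obtain ⟨ι, A, q, hq, hqR⟩ := exists_fam_of_mem hR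
  haveI := hq.fin; haveI := hq.aff
  choose x x' hx hx' hxa using hqR
  have key : ∀ m, ∃ K : Over i, F'.map (bcFst (q m) K).op (η.app _ (x m)) =
      F'.map (bcFst (q m) K).op (η.app _ (x' m)) := by
    intro m
    let sq := IsPullback.of_hasPullback (q m) (c.π.app i)
    obtain ⟨hl⟩ := isLimit_bcCone sq hc
    let top : Over i := Over.mk (𝟙 i)
    obtain ⟨K, h⟩ := eta_seps a a' η θ w hF' hs hl (isAffine_bc (q m) hD)
      (isAffine_of_isPullback_stage (q m) hD hpt sq) top (F.map (bcFst (q m) top).op (x m))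
      (F.map (bcFst (q m) top).op (x' m)) (by rw [RLim.nat, RLim.nat, hxa]) (by
        rw [RLim.map₂ F _ _ (bcCone_fst sq top), RLim.map₂ F _ _ (bcCone_fst sq top), RLim.nat, RLim.nat, hx, hx']
        exact ((RLim.map₂ F' _ _ sq.w s).trans (RLim.map₂ F' _ _ rfl s).symm).trans ((congrArg _ hp).trans
          ((RLim.map₂ F' _ _ rfl s').trans (RLim.map₂ F' _ _ sq.w s').symm)))
    refine ⟨K.left, ?_⟩
    rwa [RLim.map₂ F _ _ (bcMap_fst (q m) K.hom), RLim.map₂ F _ _ (bcMap_fst (q m) K.hom), RLim.nat, RLim.nat] at h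
  choose K hK using key
  obtain ⟨L, hL⟩ := exists_common_over K
  haveI := hD L.left
  have hfam : IsFam (fun m => bcSnd (q m) L) := hq.bc fun m => isPullback_bc (q m) L
  refine ⟨L.left, L.hom, ext_fam hF' hfam fun m => ?_⟩
  have hh := congrArg (F'.map ((bcSys (q m)).map (hL m).some).op) (hK m)
  rw [RLim.map₂ F' _ _ (bcMap_fst (q m) _), RLim.map₂ F' _ _ (bcMap_fst (q m) _), hx, hx',
    RLim.map₂ F' _ _ (bcFst_comp (q m) L), RLim.map₂ F' _ _ (bcFst_comp (q m) L)] at hh
  rwa [RLim.map₂ F' _ _ rfl, RLim.map₂ F' _ _ rfl]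

theorem lifts_sheafify [Presheaf.IsLocallyInjective (AlgSp.J S) η] [Presheaf.IsLocallySurjective (AlgSp.J S) η]
    [Presheaf.IsLocallyInjective (AlgSp.J S) θ] [Presheaf.IsLocallySurjective (AlgSp.J S) θ]
    (hF' : Presheaf.IsSheaf (AlgSp.J S) F') (hG' : Presheaf.IsSheaf (AlgSp.J S) G') (hl : RLim.Lifts a)
    (hs : RLim.Seps a) : RLim.Lifts a' := by
  intro I _ _ D c hc hD hpt i g s hgs
  haveI := hpt; haveI := hD i
  obtain ⟨κ, B, b, hb, hbR⟩ := exists_fam_of_mem (Presheaf.imageSieve_mem (AlgSp.J S) θ (U := op (D.obj i)) g)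
  choose g₀ hg₀ using hbR
  let R : Sieve c.pt :=
    { arrows := fun Z f => ∃ (k : κ) (h : Z ⟶ B k) (x : F.obj (op Z)), h ≫ b k = f ≫ c.π.app i ∧
        η.app _ x = F'.map f.op s ∧ a.app _ x = G.map h.op (g₀ k)
      downward_closed := by
        rintro Z W f ⟨k, h, x, h₁, h₂, h₃⟩ e
        refine ⟨k, e ≫ h, F.map e.op x, by rw [Category.assoc, h₁, Category.assoc], ?_, ?_⟩
        · rw [RLim.nat, h₂, RLim.map₂ F' _ _ rfl]
        · rw [RLim.nat, h₃, RLim.map₂ G _ _ rfl] }
  have hR : R ∈ AlgSp.J S c.pt := by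
    refine (AlgSp.J S).transitive ((AlgSp.J S).intersection_covering (Presheaf.imageSieve_mem (AlgSp.J S) η (U := op c.pt) s)
      ((AlgSp.J S).pullback_stable (c.π.app i) (mem_of_fam hb))) R fun Z f hf => ?_
    obtain ⟨⟨x, hx⟩, hf₂⟩ := hf
    obtain ⟨k, h, hh⟩ := Sieve.ofArrows.exists hf₂
    refine (AlgSp.J S).superset_covering ?_
      (Presheaf.equalizerSieve_mem (AlgSp.J S) θ (X := op Z) (a.app _ x) (G.map h.op (g₀ k)) ?_)
    · intro W e he
      refine ⟨k, e ≫ h, F.map e.op x, by rw [Category.assoc, ← hh, Category.assoc], ?_, ?_⟩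
      · rw [RLim.nat, hx, RLim.map₂ F' _ _ rfl]
      · rw [RLim.nat, ← RLim.map₂ G e h rfl]; exact he
    · rw [← sq_app a a' η θ w, hx, RLim.nat, hgs, RLim.nat θ, hg₀]
      exact (RLim.map₂ G' f (c.π.app i) hh g).trans (RLim.map₂ G' h (b k) rfl g).symm
  obtain ⟨ι, P, ε, hε, hεR⟩ := exists_fam_of_mem hR
  choose k h x hh hx hxa using hεR
  obtain ⟨j, A, q, l, hq, sq⟩ := exists_stage_fam hc hD hpt i hε
  haveI := hq.fin; haveI := hq.aff; haveI := hD j.left
  have key : ∀ m, ∃ (K : Over j.left) (y : F.obj (op ((bcSys (q m)).obj K))),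
      a'.app _ (η.app _ y) = G'.map (bcSnd (q m) K ≫ D.map (K.hom ≫ j.hom)).op g ∧
      F.map ((bcCone (sq m)).π.app K).op y = x m := by
    intro m
    haveI := hb.lfp (k m)
    obtain ⟨hlim⟩ := isLimit_bcCone (sq m) hc
    let top : Over j.left := Over.mk (𝟙 j.left)
    obtain ⟨K, t, hK', h₁, h₂⟩ := LfpLift.lifts_yon (b (k m)) (bcSys (q m)) (bcCone (sq m)) hlim
      (isAffine_bc (q m) hD) (hε.aff m) ((yon S).map (h m)) top
      ((yon S).map (bcFst (q m) top ≫ q m ≫ D.map j.hom)) (by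
        rw [← Functor.map_comp, ← Functor.map_comp, bcCone_fst_assoc, reassoc_of% (sq m).w, c.w, hh])
    obtain ⟨hK, rfl⟩ := (yon S).map_surjective hK'
    rw [← Functor.map_comp] at h₁
    rw [← Functor.map_comp, ← Functor.map_comp] at h₂
    replace h₁ := (yon S).map_injective h₁
    replace h₂ := (yon S).map_injective h₂
    rw [bcMap_fst_assoc] at h₂
    obtain ⟨K', t', y, hy₁, hy₂⟩ := hl (bcSys (q m)) (bcCone (sq m)) hlim (isAffine_bc (q m) hD) (hε.aff m) K
      (G.map hK.op (g₀ (k m))) (x m) ((hxa m).trans (RLim.map₂ G _ _ h₁ _).symm)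
    refine ⟨K', y, ?_, hy₂⟩
    rw [sq_app a a' η θ w, hy₁, RLim.nat, RLim.nat θ, hg₀, RLim.map₂ G' _ _ rfl, RLim.map₂ G' _ _ rfl]
    congr 3
    rw [Category.assoc, h₂, bcMap_fst_assoc, reassoc_of% (bcFst_comp (q m) K'), ← D.map_comp]
  choose K y hy₁ hy₂ using key
  obtain ⟨L, hL⟩ := exists_common_over K
  haveI := hD L.left
  obtain ⟨L', z, hz₁, hz₂⟩ := glue_stage hF' hG' (seps_sheafify a a' η θ w hF' hs) hc hD hpt (j := L.left)
    (hq.bc fun m => isPullback_bc (q m) L) (fun m => isPullback_bcCone (sq m) L)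
    (G'.map (D.map (L.hom ≫ j.hom)).op g) s (fun m => η.app _ (F.map ((bcSys (q m)).map (hL m).some).op (y m)))
    (fun m => by
      rw [RLim.nat η, RLim.nat a', hy₁, RLim.map₂ G' _ _ rfl, RLim.map₂ G' _ _ rfl]
      congr 3
      rw [bcMap_snd_assoc, ← D.map_comp, ← Category.assoc, Over.w (hL m).some])
    (fun m => by
      rw [← RLim.nat η]
      exact (congrArg _ ((RLim.map₂ F _ _ ((bcCone (sq m)).w _) (y m)).trans (hy₂ m))).trans (hx m))
  refine ⟨L'.left, L'.hom ≫ L.hom ≫ j.hom, z, ?_, hz₂⟩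
  rw [hz₁, RLim.map₂ G' _ _ (D.map_comp _ _).symm]

end Groth.L09.LfpFppf
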